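import Cfsg.Agent.H940.EngData
import Cfsg.Agent.H541.RecU52
import Cfsg.Agent.SporadicA.GolayWalk
set_option linter.all false

/-!
# S5527: simple groups of the orders of `M₂₃` and `U₅(2)` have elements of order 15 (helper26)

`m23`, `u52` : the fields of `BX.Max.Sieve` with these names, from `H940.Eng.Base`.
-/

set_option autoImplicit false
set_option maxRecDepth 100000

namespace Cfsg.Agent.BX.P11

open Cfsg Subgroup Cfsg.Agent.OrdDiv Cfsg.Agent.H940.Eng

/-! ### An element of order 15 of `M₂₃` -/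

section m23

open Cfsg.Agent.SporadicA.GolayWalk

/-- the point with index `i` -/
def ptI (i : ℕ) : GolayPt := cond (Nat.beq i 23) none (some (i : ZMod 23))

/-- the function with a given table -/
def fn (t : List ℕ) (p : GolayPt) : GolayPt := ptI (t.getD (idx p) 0)

/-- table -/
def t15 : List ℕ := [15, 2, 6, 1, 0, 18, 7, 5, 16, 11, 12, 10, 13, 17, 4, 21, 22, 3, 19, 20, 9, 14, 8, 23]

/-- table of the inverse -/
def s15 : List ℕ := [4, 3, 1, 17, 14, 7, 2, 6, 22, 20, 11, 9, 10, 12, 21, 0, 8, 13, 5, 18, 19, 15, 16, 23]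

theorem ts15 : ∀ p, fn s15 (fn t15 p) = p := by decide +kernel

theorem st15 : ∀ p, fn t15 (fn s15 p) = p := by decide +kernel

/-- a permutation of order 15 -/
def g15 : Equiv.Perm GolayPt := ⟨fn t15, fn s15, ts15, st15⟩

theorem g15_mem : g15 ∈ Spor.M23 :=
  ⟨mem_M24_of_table _ t15 rfl (by decide +kernel) (by decide +kernel), rfl⟩

theorem g15_ord : orderOf g15 = 15 := by
  refine orderOf_eq_of_pow_and_pow_div_prime (by norm_num) (by decide +kernel) fun p hp hd => ?_
  have h1 : p = 3 ∨ p = 5 := by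
    have h2 : p ∣ 3 * 5 := hd
    rcases (Nat.Prime.dvd_mul hp).1 h2 with h | h
    · exact Or.inl ((Nat.prime_dvd_prime_iff_eq hp (by norm_num)).1 h)
    · exact Or.inr ((Nat.prime_dvd_prime_iff_eq hp (by norm_num)).1 h)
  rcases h1 with rfl | rfl <;> decide +kernel

theorem fifteen_m23 {S : Type} [Group S] (h : Real .m23 S) : ∃ g : S, orderOf g = 15 := by
  obtain ⟨e⟩ := h
  exact ⟨e.symm ⟨g15, g15_mem⟩, by rw [MulEquiv.orderOf_eq, ← orderOf_coe]; exact g15_ord⟩

end m23

theorem fifteen_u52 {S : Type} [Group S] (h : Real (.psu 5 2) S) : ∃ g : S, orderOf g = 15 := by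
  obtain ⟨F, _, _, hF, ⟨e⟩⟩ := h
  obtain ⟨g, hg⟩ := H541.RecU52.exists_fifteen hF
  exact ⟨e.symm g, by rw [MulEquiv.orderOf_eq, hg]⟩

/-! ### The names -/

theorem not_comm {S : Type} [Group S] [Finite S] (hS : IsSimpleGroup S) (h : ¬ (Nat.card S).Prime) :
    ¬ ∀ a b : S, a * b = b * a := fun hc => h (by
  letI : CommGroup S := { (inferInstance : Group S) with mul_comm := hc }
  exact IsSimpleGroup.prime_card)

/-- a simple group of order `N` has one of the names of order `N` -/
theorem real_of_card (B : Base) {S : Type} [Group S] [Finite S] (hS : IsSimpleGroup S) {l : List (ℕ × ℕ)} {N : ℕ}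
    (hv : valid l N = true) (hN : ¬ N.Prime) (hc : Nat.card S = N) {g : Grp}
    (hg : (cands l N).filter (fun g => Nat.beq (ordN g) N) = [g]) : Real g S := by
  obtain ⟨g', h1, h2⟩ := exists_real_filter B.table (B.known S hS) (not_comm hS (by rwa [hc])) hv (by rw [hc])
    (fun n => Nat.beq n N) (by rw [hc]; exact Nat.beq_refl N)
  rw [hg, List.mem_singleton] at h1
  exact h1 ▸ h2

theorem m23 (B : Base) (S : Type) [Group S] [Finite S] (hS : IsSimpleGroup S) (hc : Nat.card S = 10200960) :
    ∃ s : S, orderOf s = 15 :=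
  fifteen_m23 (real_of_card B hS (l := [(2, 7), (3, 2), (5, 1), (7, 1), (11, 1), (23, 1)]) (by decide +kernel)
    (by norm_num) hc (by decide +kernel))

theorem u52 (B : Base) (S : Type) [Group S] [Finite S] (hS : IsSimpleGroup S) (hc : Nat.card S = 13685760) :
    ∃ s : S, orderOf s = 15 :=
  fifteen_u52 (real_of_card B hS (l := [(2, 10), (3, 5), (5, 1), (11, 1)]) (by decide +kernel)
    (by norm_num) hc (by decide +kernel))

end Cfsg.Agent.BX.P11
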